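import Cfsg.Agent.Schur.Basic
import Cfsg.Agent.SchurSylow.Bound

set_option autoImplicit false

/-!
The part of the kernel of a stem extension at one prime.
-/

namespace CfsgLib.SchurPrime

open CfsgLib.Schur

universe u v

variable {G : Type u} [Group G] {Γ : Type v} [Group Γ]

/-- The part of a kernel at one prime, as a quotient extension. -/
theorem exists_prime_part [Finite Γ] {σ : Γ →* G} (hσ : Cfsg.IsStemExtension σ) (p : ℕ) [hp : Fact p.Prime]
    {k : ℕ} (hk : p ^ k ∣ Nat.card σ.ker) :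
    ∃ (Δ : Type v) (_ : Group Δ) (_ : Finite Δ) (τ : Δ →* G), Cfsg.IsStemExtension τ ∧
      (∀ q, q.Prime → q ∣ Nat.card τ.ker → q = p) ∧ p ^ k ∣ Nat.card τ.ker := by
  classical
  set m := Nat.card σ.ker / p ^ (Nat.card σ.ker).factorization p with hm
  have hpm : ¬ p ∣ m := Nat.not_dvd_ordCompl hp.out Nat.card_pos.ne'
  have hc : ∀ x ∈ σ.ker, ∀ g, g * x = x * g := fun x hx => Subgroup.mem_center_iff.1 (hσ.2.1 hx)
  let N : Subgroup Γ :=
    { carrier := {x | x ∈ σ.ker ∧ x ^ m = 1}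
      one_mem' := ⟨one_mem _, one_pow m⟩
      mul_mem' := fun {x y} hx hy => ⟨mul_mem hx.1 hy.1, by
        rw [(show Commute x y from (hc _ hx.1 y).symm).mul_pow, hx.2, hy.2, one_mul]⟩
      inv_mem' := fun {x} hx => ⟨inv_mem hx.1, by rw [inv_pow, hx.2, inv_one]⟩ }
  have hN : N ≤ σ.ker := fun x hx => hx.1
  haveI : N.Normal := ⟨fun x hx g => by rwa [hc _ hx.1 g, mul_inv_cancel_right]⟩
  let τ : Γ ⧸ N →* G := QuotientGroup.lift N σ hN
  have hτk : τ.ker = σ.ker.map (QuotientGroup.mk' N) := QuotientGroup.ker_lift N σ hN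
  refine ⟨Γ ⧸ N, inferInstance, inferInstance, τ, ⟨fun g => ?_, ?_, ?_⟩, ?_, ?_⟩
  · obtain ⟨x, hx⟩ := hσ.1 g
    exact ⟨(x : Γ ⧸ N), hx⟩
  · rw [hτk]
    rintro _ ⟨x, hx, rfl⟩
    refine Subgroup.mem_center_iff.2 fun y => ?_
    obtain ⟨y, rfl⟩ := QuotientGroup.mk'_surjective N y
    rw [← map_mul, ← map_mul, hc x hx]
  · rw [hτk, ← map_commutator_surjective _ (QuotientGroup.mk'_surjective N)]
    exact Subgroup.map_mono hσ.2.2
  · intro q hq hd
    haveI := Fact.mk hq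
    obtain ⟨y, hy⟩ := exists_prime_orderOf_dvd_card' q hd
    have hy' : (y : Γ ⧸ N) ^ p ^ (Nat.card σ.ker).factorization p = 1 := by
      have hmem : (y : Γ ⧸ N) ∈ σ.ker.map (QuotientGroup.mk' N) := hτk ▸ y.2
      obtain ⟨x, hx, e⟩ := hmem
      rw [← e, ← map_pow]
      refine (QuotientGroup.eq_one_iff _).2 ⟨pow_mem hx _, ?_⟩
      rw [← pow_mul, hm, Nat.ordProj_mul_ordCompl_eq_self]
      exact congrArg Subtype.val (pow_card_eq_one' (x := (⟨x, hx⟩ : σ.ker)))
    have h1 : q ∣ p ^ (Nat.card σ.ker).factorization p := by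
      rw [← hy, ← Subgroup.orderOf_coe]
      exact orderOf_dvd_of_pow_eq_one hy'
    exact (Nat.prime_dvd_prime_iff_eq hq hp.out).1 (hq.dvd_of_dvd_pow h1)
  · have hcard : Nat.card σ.ker = Nat.card (N.subgroupOf σ.ker) * Nat.card τ.ker := by
      rw [← Subgroup.card_mul_index (N.subgroupOf σ.ker)]
      congr 1
      rw [hτk, ← Subgroup.relIndex]
      have h : (QuotientGroup.mk' N).ker = N := QuotientGroup.ker_mk' N
      rw [← Subgroup.relIndex_ker, h]
    rw [hcard] at hk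
    refine Nat.Coprime.dvd_of_dvd_mul_left (Nat.Coprime.pow_left k ?_) hk
    refine (hp.out.coprime_iff_not_dvd).2 fun hd => ?_
    obtain ⟨x, hx⟩ := exists_prime_orderOf_dvd_card' p hd
    refine hpm ?_
    have h2 : orderOf ((x : σ.ker) : Γ) = p := by
      rw [Subgroup.orderOf_coe, Subgroup.orderOf_coe, hx]
    rw [← h2]
    exact orderOf_dvd_of_pow_eq_one x.2.2

end CfsgLib.SchurPrime
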